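import Cfsg.Agent.Lib.Classical.GUCentralizer.Model
import Cfsg.Agent.Lib.Classical.UnitaryConjugacy
import Cfsg.Agent.Lib.Classical.HermOrder

/-!
Counting the unitary part of the commutant.
-/

set_option autoImplicit false
set_option linter.unusedSectionVars false

namespace CfsgLib.Classical.GUCentralizer

open Matrix

variable {K : Type*} [Field K] [StarRing K] {t : ℕ}

namespace Data

variable (D : Data t K)

theorem inter_iff (x : Matrix D.Idx D.Idx K) : D.InR x ↔ ∀ k l, IsInter (D.blk (D.ψ x) k l) := by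
  refine ⟨fun hx k l => hx.inter D k l, fun h => D.ext_blk fun k l => ?_⟩
  simp only [uu, blk_mul_diag, blk_diag_mul]
  have h' := D.comm_of_inter (h k l)
  rw [blk_ψ] at h'
  simpa [← Matrix.mul_assoc, D.c_ci, Matrix.mul_assoc (D.blk x k l) (D.c (D.d l))] using h'

theorem T_zero : D.T 0 = 0 := by
  ext a b; simp [T]

theorem T_add (M N : Matrix (Fin t) (Fin t) K) : D.T (M + N) = D.T M + D.T N := by
  ext a b
  simp only [T, Matrix.of_apply, Matrix.add_apply]
  split_ifs <;> simp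

theorem φ_zero : D.φ 0 = 0 := by
  rw [← sub_self (0 : Matrix D.Idx D.Idx K), D.φ_sub, sub_self]

theorem InL.star {M : Matrix (Fin t) (Fin t) K} (hM : D.InL M) : D.InL Mᴴ := fun k l h => by
  rw [conjTranspose_apply, hM l k (Ne.symm h), star_zero]

/-- The kernel of the corners. -/
abbrev R0 := {x : Matrix D.Idx D.Idx K // D.InR x ∧ D.φ x = 0}

/-- Its self-adjoint part. -/
abbrev S0 := {x : Matrix D.Idx D.Idx K // D.InR x ∧ D.φ x = 0 ∧ xᴴ = x}

/-- The unitary part with trivial corners. -/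
abbrev U1 := {x : Matrix D.Idx D.Idx K // D.InR x ∧ D.φ x = 1 ∧ xᴴ * x = 1}

theorem card_R : Nat.card {x : Matrix D.Idx D.Idx K // D.InR x} =
    ∏ k, ∏ l, Nat.card {B : Matrix (Fin (D.d k)) (Fin (D.d l)) K // IsInter B} := by
  classical
  rw [show (∏ k, ∏ l, Nat.card {B : Matrix (Fin (D.d k)) (Fin (D.d l)) K // IsInter B}) =
    Nat.card (∀ k l, {B : Matrix (Fin (D.d k)) (Fin (D.d l)) K // IsInter B}) by simp only [Nat.card_pi]]
  obtain ⟨C, hC⟩ : ∃ C : Matrix D.Idx D.Idx K, C = blockDiagonal' fun k => D.c (D.d k) := ⟨_, rfl⟩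
  obtain ⟨Ci, hCi⟩ : ∃ Ci : Matrix D.Idx D.Idx K, Ci = blockDiagonal' fun k => D.ci (D.d k) := ⟨_, rfl⟩
  have h1 : C * Ci = 1 := by rw [hC, hCi]; exact D.diag_c_ci
  have h2 : Ci * C = 1 := mul_eq_one_comm.1 h1
  have hψ : ∀ x, D.ψ x = Ci * x * C := fun x => by rw [hC, hCi]; rfl
  have hblk : ∀ (B : ∀ k l, {B : Matrix (Fin (D.d k)) (Fin (D.d l)) K // IsInter B}) (k l : Fin t),
      D.blk (D.ψ (C * (Matrix.of fun (a b : D.Idx) => (B a.1 b.1).1 a.2 b.2) * Ci)) k l = (B k l).1 := fun B k l => by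
    rw [hψ, show Ci * (C * (Matrix.of fun (a b : D.Idx) => (B a.1 b.1).1 a.2 b.2) * Ci) * C =
      (Ci * C) * (Matrix.of fun (a b : D.Idx) => (B a.1 b.1).1 a.2 b.2) * (Ci * C) by simp only [Matrix.mul_assoc], h2,
      Matrix.one_mul, Matrix.mul_one]
    ext r s
    simp [blk_apply]
  refine Nat.card_eq_of_bijective (fun x k l => ⟨D.blk (D.ψ x.1) k l, x.2.inter D k l⟩) ⟨?_, ?_⟩
  · intro x y hxy
    have h : D.ψ x.1 = D.ψ y.1 := D.ext_blk fun k l => congrArg Subtype.val (congrFun (congrFun hxy k) l)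
    rw [hψ, hψ] at h
    have h' := congrArg (fun z => C * z * Ci) h
    simp only [← Matrix.mul_assoc, h1, Matrix.one_mul] at h'
    rw [Matrix.mul_assoc, h1, Matrix.mul_one, Matrix.mul_assoc, h1, Matrix.mul_one] at h'
    exact Subtype.ext h'
  · intro B
    obtain ⟨x, hx⟩ : ∃ x, x = C * (Matrix.of fun (a b : D.Idx) => (B a.1 b.1).1 a.2 b.2) * Ci := ⟨_, rfl⟩
    have hb : ∀ k l, D.blk (D.ψ x) k l = (B k l).1 := fun k l => hx ▸ hblk B k l
    exact ⟨⟨x, (D.inter_iff _).2 fun k l => (hb k l).symm ▸ (B k l).2⟩,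
      funext fun k => funext fun l => Subtype.ext (hb k l)⟩

theorem card_L [Fintype K] : Nat.card {M : Matrix (Fin t) (Fin t) K // D.InL M} =
    Fintype.card K ^ ∑ k, (Finset.univ.filter fun l => D.d k = D.d l).card := by
  classical
  let e : {M : Matrix (Fin t) (Fin t) K // D.InL M} ≃ ((k : Fin t) → {l : Fin t // D.d k = D.d l} → K) :=
    { toFun := fun M k l => M.1 k l.1
      invFun := fun f => ⟨Matrix.of fun k l => if h : D.d k = D.d l then f k ⟨l, h⟩ else 0,
        fun k l h => by rw [Matrix.of_apply, dif_neg h]⟩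
      left_inv := fun M => Subtype.ext (Matrix.ext fun k l => by
        by_cases h : D.d k = D.d l
        · simp [h]
        · simp [h, M.2 k l h])
      right_inv := fun f => funext fun k => funext fun l => by simp [l.2] }
  rw [Nat.card_congr e, Nat.card_pi, ← Finset.prod_pow_eq_pow_sum]
  refine Finset.prod_congr rfl fun k _ => ?_
  rw [Nat.card_eq_fintype_card, Fintype.card_fun, Fintype.card_subtype]

theorem card_R_split : Nat.card {x : Matrix D.Idx D.Idx K // D.InR x} =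
    Nat.card {M : Matrix (Fin t) (Fin t) K // D.InL M} * Nat.card D.R0 := by
  rw [← Nat.card_prod]
  refine Nat.card_congr
    { toFun := fun x => (⟨D.φ x.1, D.inL_φ x.1⟩, ⟨x.1 - D.T (D.φ x.1),
        x.2.sub D (D.inR_T _), by rw [D.φ_sub, D.φ_T (D.inL_φ _), sub_self]⟩)
      invFun := fun p => ⟨D.T p.1.1 + p.2.1, (D.inR_T _).add D p.2.2.1⟩
      left_inv := fun x => Subtype.ext (add_sub_cancel _ _)
      right_inv := fun p => ?_ }
  have h : D.φ (D.T p.1.1 + p.2.1) = p.1.1 := by rw [D.φ_add, D.φ_T p.1.2, p.2.2.2, add_zero]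
  refine Prod.ext (Subtype.ext h) (Subtype.ext ?_)
  show D.T p.1.1 + p.2.1 - D.T (D.φ (D.T p.1.1 + p.2.1)) = p.2.1
  rw [h, add_sub_cancel_left]

theorem card_R0 (k : K) (hk : star k ≠ k) : Nat.card D.R0 = Nat.card D.S0 * Nat.card D.S0 := by
  have hk' : k - star k ≠ 0 := sub_ne_zero.2 (Ne.symm hk)
  have hstar : star (k - star k)⁻¹ = -(k - star k)⁻¹ := by
    rw [star_inv₀, star_sub, star_star, ← neg_sub k (star k), inv_neg]
  rw [← Nat.card_prod]
  refine Nat.card_congr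
    { toFun := fun x => (⟨x.1 - k • ((k - star k)⁻¹ • (x.1 - x.1ᴴ)),
          x.2.1.sub D (InR.smul D _ (InR.smul D _ (x.2.1.sub D (x.2.1.star D)))), ?_, ?_⟩,
        ⟨(k - star k)⁻¹ • (x.1 - x.1ᴴ), InR.smul D _ (x.2.1.sub D (x.2.1.star D)), ?_, ?_⟩)
      invFun := fun p => ⟨p.1.1 + k • p.2.1, p.1.2.1.add D (InR.smul D _ p.2.2.1), by
        rw [D.φ_add, D.φ_smul, p.1.2.2.1, p.2.2.2.1, smul_zero, add_zero]⟩
      left_inv := fun x => Subtype.ext (sub_add_cancel _ _)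
      right_inv := fun p => ?_ }
  · rw [D.φ_sub, D.φ_smul, D.φ_smul, D.φ_sub, D.φ_star x.2.1, x.2.2]; simp
  · rw [conjTranspose_sub, conjTranspose_smul, conjTranspose_smul, conjTranspose_sub, conjTranspose_conjTranspose,
      hstar, neg_smul, ← smul_neg, neg_sub]
    have e : x.1 - x.1ᴴ = (k - star k) • ((k - star k)⁻¹ • (x.1 - x.1ᴴ)) := by
      rw [smul_smul, mul_inv_cancel₀ hk', one_smul]
    rw [sub_smul] at e
    linear_combination (norm := module) -e
  · rw [D.φ_smul, D.φ_sub, D.φ_star x.2.1, x.2.2]; simp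
  · rw [conjTranspose_smul, conjTranspose_sub, conjTranspose_conjTranspose, hstar, neg_smul, ← smul_neg, neg_sub]
  · have h : (p.1.1 + k • p.2.1) - (p.1.1 + k • p.2.1)ᴴ = (k - star k) • p.2.1 := by
      rw [conjTranspose_add, conjTranspose_smul, p.1.2.2.2, p.2.2.2.2, sub_smul, add_sub_add_left_eq_sub]
    have h2 : (k - star k)⁻¹ • ((p.1.1 + k • p.2.1) - (p.1.1 + k • p.2.1)ᴴ) = p.2.1 := by
      rw [h, smul_smul, inv_mul_cancel₀ hk', one_smul]
    refine Prod.ext (Subtype.ext ?_) (Subtype.ext h2)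
    show p.1.1 + k • p.2.1 - k • _ = p.1.1
    rw [h2, add_sub_cancel_right]

theorem card_U1 [Finite K] (k : K) (hk : star k ≠ k) : Nat.card D.U1 = Nat.card D.S0 := by
  classical
  have hX1 : Nat.card {x : Matrix D.Idx D.Idx K // D.InR x ∧ D.φ x = 1} = Nat.card D.R0 := Nat.card_congr
    { toFun := fun x => ⟨x.1 - 1, x.2.1.sub D (InR.one D), by rw [D.φ_sub, x.2.2, D.φ_one, sub_self]⟩
      invFun := fun x => ⟨x.1 + 1, x.2.1.add D (InR.one D), by rw [D.φ_add, x.2.2, D.φ_one, zero_add]⟩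
      left_inv := fun x => Subtype.ext (sub_add_cancel _ _)
      right_inv := fun x => Subtype.ext (add_sub_cancel_right _ _) }
  have hS1 : Nat.card {x : Matrix D.Idx D.Idx K // D.InR x ∧ D.φ x = 1 ∧ xᴴ = x} = Nat.card D.S0 := Nat.card_congr
    { toFun := fun x => ⟨x.1 - 1, x.2.1.sub D (InR.one D), by rw [D.φ_sub, x.2.2.1, D.φ_one, sub_self],
        by rw [conjTranspose_sub, conjTranspose_one, x.2.2.2]⟩
      invFun := fun x => ⟨x.1 + 1, x.2.1.add D (InR.one D), by rw [D.φ_add, x.2.2.1, D.φ_one, zero_add],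
        by rw [conjTranspose_add, conjTranspose_one, x.2.2.2]⟩
      left_inv := fun x => Subtype.ext (sub_add_cancel _ _)
      right_inv := fun x => Subtype.ext (add_sub_cancel_right _ _) }
  -- a section of the norm
  have hz : ∀ h : {x : Matrix D.Idx D.Idx K // D.InR x ∧ D.φ x = 1 ∧ xᴴ = x},
      ∃ z zi : Matrix D.Idx D.Idx K, zᴴ * z = h.1 ∧ z * zi = 1 ∧ zi * z = 1 ∧
        (D.InR z ∧ D.φ z = 1) ∧ D.InR zi ∧ D.φ zi = 1 := by
    rintro ⟨h, hR, h1, hs⟩
    obtain ⟨z, hzu, hzz, hzc⟩ := InvolNorm.exists_norm_sqrt (A := Matrix D.Idx D.Idx K) Matrix.conjTranspose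
      (fun a : K => star a) conjTranspose_add conjTranspose_mul conjTranspose_one
      (fun a => by rw [Algebra.algebraMap_eq_smul_one, Algebra.algebraMap_eq_smul_one, conjTranspose_smul,
        conjTranspose_one]) k hk (fun a => conjTranspose_conjTranspose _) (D.isUnit_of_φ_eq_one hR h1) hs
    obtain ⟨Z, rfl⟩ := hzu
    have hzR : D.InR (Z : Matrix D.Idx D.Idx K) := (hzc _ hR.symm).symm
    have hM : (D.φ (Z : Matrix D.Idx D.Idx K))ᴴ * D.φ (Z : Matrix D.Idx D.Idx K) = 1 := by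
      rw [← D.φ_star hzR, ← D.φ_mul (hzR.star D) hzR, hzz, h1]
    obtain ⟨M, hMdef⟩ : ∃ M, M = D.φ (Z : Matrix D.Idx D.Idx K) := ⟨_, rfl⟩
    rw [← hMdef] at hM
    have hML : D.InL M := hMdef ▸ D.inL_φ _
    have hM' : M * Mᴴ = 1 := mul_eq_one_comm.1 hM
    obtain ⟨z', hz'⟩ : ∃ z', z' = D.T Mᴴ * (Z : Matrix D.Idx D.Idx K) := ⟨_, rfl⟩
    obtain ⟨zi, hzi⟩ : ∃ zi, zi = ((Z⁻¹ : (Matrix D.Idx D.Idx K)ˣ) : Matrix D.Idx D.Idx K) * D.T M := ⟨_, rfl⟩
    have hzR' : D.InR z' := hz' ▸ (D.inR_T _).mul D hzR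
    have hφ : D.φ z' = 1 := by rw [hz', D.φ_mul (D.inR_T _) hzR, D.φ_T (InL.star D hML), ← hMdef, hM]
    have hiR : D.InR zi := by
      rw [hzi]
      refine InR.mul D ?_ (D.inR_T _)
      show _ * D.uu = D.uu * _
      exact (Commute.units_inv_left (show Commute (Z : Matrix D.Idx D.Idx K) D.uu from hzR)).eq
    have e1 : z' * zi = 1 := by
      rw [hz', hzi, Matrix.mul_assoc, ← Matrix.mul_assoc (Z : Matrix D.Idx D.Idx K), Units.mul_inv, Matrix.one_mul,
        D.T_mul (InL.star D hML) hML, hM, D.T_one]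
    refine ⟨z', zi, ?_, e1, mul_eq_one_comm.1 e1, ⟨hzR', hφ⟩, hiR, ?_⟩
    · rw [hz', conjTranspose_mul, D.T_star, conjTranspose_conjTranspose, Matrix.mul_assoc, ← Matrix.mul_assoc (D.T M),
        D.T_mul hML (InL.star D hML), hM', D.T_one, Matrix.one_mul, hzz]
    · have := congrArg D.φ e1
      rwa [D.φ_mul hzR' hiR, hφ, Matrix.one_mul, D.φ_one] at this
  choose z zi hzz hzzi hziz hzR hziR hziφ using hz
  have hN : ∀ x : {x : Matrix D.Idx D.Idx K // D.InR x ∧ D.φ x = 1},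
      D.InR (x.1ᴴ * x.1) ∧ D.φ (x.1ᴴ * x.1) = 1 ∧ (x.1ᴴ * x.1)ᴴ = x.1ᴴ * x.1 := fun x =>
    ⟨(x.2.1.star D).mul D x.2.1, by rw [D.φ_mul (x.2.1.star D) x.2.1, D.φ_star x.2.1, x.2.2, conjTranspose_one, Matrix.one_mul],
      by rw [conjTranspose_mul, conjTranspose_conjTranspose]⟩
  have hzis : ∀ h, (z h)ᴴ * (z h) = h.1 → (zi h)ᴴ * h.1 * zi h = 1 := fun h e => by
    rw [← e, show (zi h)ᴴ * ((z h)ᴴ * z h) * zi h = ((zi h)ᴴ * (z h)ᴴ) * (z h * zi h) by simp only [Matrix.mul_assoc],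
      ← conjTranspose_mul, hzzi, conjTranspose_one, Matrix.one_mul]
  have key : Nat.card {x : Matrix D.Idx D.Idx K // D.InR x ∧ D.φ x = 1} =
      Nat.card D.U1 * Nat.card {x : Matrix D.Idx D.Idx K // D.InR x ∧ D.φ x = 1 ∧ xᴴ = x} := by
    rw [← Nat.card_prod]
    refine Nat.card_congr
      { toFun := fun x => (⟨x.1 * zi ⟨x.1ᴴ * x.1, hN x⟩, x.2.1.mul D (hziR _), ?_, ?_⟩, ⟨x.1ᴴ * x.1, hN x⟩)
        invFun := fun p => ⟨p.1.1 * z p.2, p.1.2.1.mul D (hzR _).1, by
          rw [D.φ_mul p.1.2.1 (hzR _).1, p.1.2.2.1, (hzR _).2, Matrix.one_mul]⟩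
        left_inv := fun x => Subtype.ext (by
          show x.1 * zi _ * z _ = x.1
          rw [Matrix.mul_assoc, hziz, Matrix.mul_one])
        right_inv := fun p => ?_ }
    · rw [D.φ_mul x.2.1 (hziR _), x.2.2, hziφ, Matrix.one_mul]
    · rw [conjTranspose_mul, Matrix.mul_assoc, ← Matrix.mul_assoc x.1ᴴ, ← Matrix.mul_assoc]
      exact hzis _ (hzz _)
    · have hn : (p.1.1 * z p.2)ᴴ * (p.1.1 * z p.2) = p.2.1 := by
        rw [conjTranspose_mul, Matrix.mul_assoc, ← Matrix.mul_assoc p.1.1ᴴ, p.1.2.2.2, Matrix.one_mul, hzz]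
      have hp : ∀ pf, (⟨(p.1.1 * z p.2)ᴴ * (p.1.1 * z p.2), pf⟩ :
          {x : Matrix D.Idx D.Idx K // D.InR x ∧ D.φ x = 1 ∧ xᴴ = x}) = p.2 := fun pf => Subtype.ext hn
      refine Prod.ext (Subtype.ext ?_) (hp _)
      show p.1.1 * z p.2 * zi _ = p.1.1
      rw [hp, Matrix.mul_assoc, hzzi, Matrix.mul_one]
  rw [hX1, hS1, D.card_R0 k hk] at key
  have : Nonempty D.S0 := ⟨⟨0, by rw [InR, Matrix.zero_mul, Matrix.mul_zero], D.φ_zero, conjTranspose_zero⟩⟩
  exact (mul_right_cancel₀ (Nat.card_pos (α := D.S0)).ne' key).symm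

theorem card_UR_split : Nat.card {x : Matrix D.Idx D.Idx K // D.InR x ∧ xᴴ * x = 1} =
    Nat.card {M : Matrix (Fin t) (Fin t) K // D.InL M ∧ Mᴴ * M = 1} * Nat.card D.U1 := by
  rw [← Nat.card_prod]
  have hφu : ∀ x : {x : Matrix D.Idx D.Idx K // D.InR x ∧ xᴴ * x = 1}, (D.φ x.1)ᴴ * D.φ x.1 = 1 := fun x => by
    rw [← D.φ_star x.2.1, ← D.φ_mul (x.2.1.star D) x.2.1, x.2.2, D.φ_one]
  refine Nat.card_congr
    { toFun := fun x => (⟨D.φ x.1, D.inL_φ _, hφu x⟩, ⟨D.T (D.φ x.1)ᴴ * x.1, (D.inR_T _).mul D x.2.1, ?_, ?_⟩)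
      invFun := fun p => ⟨D.T p.1.1 * p.2.1, (D.inR_T _).mul D p.2.2.1, ?_⟩
      left_inv := fun x => Subtype.ext ?_
      right_inv := fun p => ?_ }
  · rw [D.φ_mul (D.inR_T _) x.2.1, D.φ_T (InL.star D (D.inL_φ _)), hφu x]
  · rw [conjTranspose_mul, D.T_star, conjTranspose_conjTranspose, Matrix.mul_assoc, ← Matrix.mul_assoc (D.T _),
      D.T_mul (D.inL_φ _) (InL.star D (D.inL_φ _)), mul_eq_one_comm.1 (hφu x), D.T_one, Matrix.one_mul, x.2.2]
  · rw [conjTranspose_mul, D.T_star, Matrix.mul_assoc, ← Matrix.mul_assoc (D.T _),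
      D.T_mul (InL.star D p.1.2.1) p.1.2.1, p.1.2.2, D.T_one, Matrix.one_mul, p.2.2.2.2]
  · show D.T (D.φ x.1) * (D.T (D.φ x.1)ᴴ * x.1) = x.1
    rw [← Matrix.mul_assoc, D.T_mul (D.inL_φ _) (InL.star D (D.inL_φ _)), mul_eq_one_comm.1 (hφu x), D.T_one,
      Matrix.one_mul]
  · have h : D.φ (D.T p.1.1 * p.2.1) = p.1.1 := by
      rw [D.φ_mul (D.inR_T _) p.2.2.1, D.φ_T p.1.2.1, p.2.2.2.1, Matrix.mul_one]
    refine Prod.ext (Subtype.ext h) (Subtype.ext ?_)
    show D.T (D.φ (D.T p.1.1 * p.2.1))ᴴ * (D.T p.1.1 * p.2.1) = p.2.1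
    rw [h, ← Matrix.mul_assoc, D.T_mul (InL.star D p.1.2.1) p.1.2.1, p.1.2.2, D.T_one, Matrix.one_mul]

theorem card_unitary [Fintype K] {q : ℕ} (hK : Fintype.card K = q ^ 2) (hstar : ∀ a : K, star a = a ^ q)
    (ι : Type*) [Fintype ι] [DecidableEq ι] :
    Nat.card {A : Matrix ι ι K // Aᴴ * A = 1} = unitaryOrder q (Fintype.card ι) := by
  rw [← card_gu hK]
  let e := Fintype.equivFin ι
  have hq : ∀ A : Matrix (Fin (Fintype.card ι)) (Fin (Fintype.card ι)) K, GUConj.starQ q A = Aᴴ := fun A => by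
    ext a b; simp [GUConj.starQ, hstar]
  refine Nat.card_congr
    { toFun := fun A => ⟨⟨Matrix.reindex e e A.1, (Matrix.reindex e e A.1)ᴴ, mul_eq_one_comm.1 ?_, ?_⟩, ?_⟩
      invFun := fun g => ⟨Matrix.reindex e.symm e.symm ((g : GL (Fin (Fintype.card ι)) K) : Matrix _ _ K), ?_⟩
      left_inv := fun A => Subtype.ext (by simp)
      right_inv := fun g => Subtype.ext (Units.ext (by simp)) }
  · simp [Matrix.reindex_apply, Matrix.conjTranspose_submatrix, Matrix.submatrix_mul_equiv, A.2]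
  · simp [Matrix.reindex_apply, Matrix.conjTranspose_submatrix, Matrix.submatrix_mul_equiv, A.2]
  · rw [GUConj.mem_gu_iff_starQ hK, hq]
    simp [Matrix.reindex_apply, Matrix.conjTranspose_submatrix, Matrix.submatrix_mul_equiv, A.2]
  · have h := (GUConj.mem_gu_iff_starQ hK _).1 g.2
    rw [hq] at h
    simp [Matrix.reindex_apply, Matrix.conjTranspose_submatrix, Matrix.submatrix_mul_equiv, h]

theorem sum_filter_of_inL {M N : Matrix (Fin t) (Fin t) K} (hM : D.InL M) (k l : Fin t) (i : ℕ) (hk : D.d k = i) :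
    (M * N) k l = ∑ m : {m : Fin t // D.d m = i}, M k m.1 * N m.1 l := by
  rw [Matrix.mul_apply, ← Finset.sum_subtype (Finset.univ.filter fun m => D.d m = i) (by simp) fun m => M k m * N m l,
    Finset.sum_filter]
  refine Finset.sum_congr rfl fun m _ => ?_
  by_cases h : D.d m = i
  · rw [if_pos h]
  · rw [if_neg h, hM k m (hk.trans_ne (Ne.symm h)), zero_mul]

theorem card_UL [Fintype K] {q : ℕ} (hK : Fintype.card K = q ^ 2) (hstar : ∀ a : K, star a = a ^ q) :
    Nat.card {M : Matrix (Fin t) (Fin t) K // D.InL M ∧ Mᴴ * M = 1} =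
      ∏ i ∈ Finset.range (Finset.univ.sup D.d + 1), unitaryOrder q (Finset.univ.filter fun k => D.d k = i).card := by
  classical
  rw [← Finset.prod_coe_sort]
  have hi : ∀ i : ↥(Finset.range (Finset.univ.sup D.d + 1)), unitaryOrder q (Finset.univ.filter fun k => D.d k = i.1).card =
      Nat.card {A : Matrix {k : Fin t // D.d k = i.1} {k : Fin t // D.d k = i.1} K // Aᴴ * A = 1} := fun i => by
    rw [card_unitary hK hstar, Fintype.card_subtype]
  rw [Finset.prod_congr rfl fun i _ => hi i, ← Nat.card_pi]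
  have hmem : ∀ k, D.d k ∈ Finset.range (Finset.univ.sup D.d + 1) := fun k =>
    Finset.mem_range.2 (Nat.lt_succ_of_le (Finset.le_sup (Finset.mem_univ k)))
  have hcoe : ∀ (F : ∀ i : ↥(Finset.range (Finset.univ.sup D.d + 1)),
      {A : Matrix {k : Fin t // D.d k = i.1} {k : Fin t // D.d k = i.1} K // Aᴴ * A = 1}) (i : ℕ) (hi : i ∈ _)
      (a b : Fin t) (ha : D.d a = i) (hb : D.d b = i),
      (if h : D.d a = D.d b then (F ⟨D.d a, hmem a⟩).1 ⟨a, rfl⟩ ⟨b, h.symm⟩ else 0) = (F ⟨i, hi⟩).1 ⟨a, ha⟩ ⟨b, hb⟩ := by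
    intro F i hi a b ha hb
    subst ha
    rw [dif_pos hb.symm]
  refine Nat.card_congr
    { toFun := fun M i => ⟨Matrix.of fun a b => M.1 a.1 b.1, ?_⟩
      invFun := fun F => ⟨Matrix.of fun k l => if h : D.d k = D.d l then (F ⟨D.d k, hmem k⟩).1 ⟨k, rfl⟩ ⟨l, h.symm⟩ else 0,
        ?_, ?_⟩
      left_inv := fun M => Subtype.ext (Matrix.ext fun k l => ?_)
      right_inv := fun F => funext fun i => Subtype.ext (Matrix.ext fun a b => ?_) }
  · ext a b
    rw [Matrix.mul_apply]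
    have h := congrFun (congrFun M.2.2 a.1) b.1
    rw [D.sum_filter_of_inL (InL.star D M.2.1) a.1 b.1 i.1 a.2] at h
    refine Eq.trans ?_ (h.trans ?_)
    · rfl
    · rw [Matrix.one_apply, Matrix.one_apply]; exact if_congr Subtype.ext_iff.symm rfl rfl
  · intro k l h
    rw [Matrix.of_apply, dif_neg h]
  · ext k l
    obtain ⟨M, hM⟩ : ∃ M : Matrix (Fin t) (Fin t) K, M = Matrix.of fun k l =>
      if h : D.d k = D.d l then (F ⟨D.d k, hmem k⟩).1 ⟨k, rfl⟩ ⟨l, h.symm⟩ else 0 := ⟨_, rfl⟩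
    rw [← hM]
    have hval : ∀ i a b, M a.1 b.1 = (F i).1 a b := by
      intro i a b
      rw [hM, Matrix.of_apply]
      exact hcoe F i.1 i.2 a.1 b.1 a.2 b.2
    have hL : D.InL M := fun k l h => by rw [hM, Matrix.of_apply, dif_neg h]
    by_cases h : D.d k = D.d l
    · rw [D.sum_filter_of_inL (InL.star D hL) k l (D.d k) rfl]
      have hu := congrFun (congrFun (F ⟨D.d k, hmem k⟩).2 ⟨k, rfl⟩) ⟨l, h.symm⟩
      rw [Matrix.mul_apply] at hu
      refine Eq.trans (Finset.sum_congr rfl fun m _ => ?_) (hu.trans ?_)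
      · rw [conjTranspose_apply, conjTranspose_apply, ← hval ⟨D.d k, hmem k⟩ m ⟨k, rfl⟩, ← hval ⟨D.d k, hmem k⟩ m ⟨l, h.symm⟩]
      · rw [Matrix.one_apply, Matrix.one_apply]; exact if_congr (by simp [Subtype.ext_iff]) rfl rfl
    · rw [Matrix.one_apply_ne (fun e => h (congrArg D.d e)), Matrix.mul_apply]
      refine Finset.sum_eq_zero fun m _ => ?_
      by_cases hm : D.d k = D.d m
      · rw [hL m l (fun e => h (hm.trans e)), mul_zero]
      · rw [InL.star D hL k m hm, zero_mul]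
  · by_cases h : D.d k = D.d l
    · simp [h]
    · simp [h, M.2.1 k l h]
  · exact hcoe F i.1 i.2 a.1 b.1 a.2 b.2

/-- The exponent. -/
theorem sum_min {d : Fin t → ℕ} (hd : ∀ k, 1 ≤ d k) :
    ∑ k, ∑ l, min (d k) (d l) =
      2 * (∑ i ∈ Finset.range (Finset.univ.sup d + 1), ∑ j ∈ Finset.range (Finset.univ.sup d + 1),
        if i < j then i * (Finset.univ.filter fun k => d k = i).card * (Finset.univ.filter fun k => d k = j).card else 0) +
      ∑ i ∈ Finset.range (Finset.univ.sup d + 1), (i - 1) * (Finset.univ.filter fun k => d k = i).card ^ 2 +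
      ∑ k, (Finset.univ.filter fun l => d k = d l).card := by
  classical
  set R := Finset.range (Finset.univ.sup d + 1) with hR
  have hs : ∀ g : ℕ → ℕ, ∑ k, g (d k) = ∑ i ∈ R, (Finset.univ.filter fun k => d k = i).card * g i := fun g => by
    rw [← Finset.sum_fiberwise_of_maps_to (s := Finset.univ) (t := R) (g := d)
      (fun k _ => Finset.mem_range.2 (Nat.lt_succ_of_le (Finset.le_sup (Finset.mem_univ k))))]
    refine Finset.sum_congr rfl fun i _ => ?_
    rw [Finset.sum_congr rfl (fun k hk => by rw [(Finset.mem_filter.1 hk).2]), Finset.sum_const, smul_eq_mul]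
  rw [Finset.sum_congr rfl fun k _ => hs fun j => min (d k) j,
    hs fun i => ∑ j ∈ R, (Finset.univ.filter fun k => d k = j).card * min i j,
    Finset.sum_congr rfl (fun k _ => congrArg Finset.card (Finset.filter_congr fun l _ => eq_comm) :
      ∀ k ∈ (Finset.univ : Finset (Fin t)), (Finset.univ.filter fun l => d k = d l).card = (Finset.univ.filter fun l => d l = d k).card),
    hs fun i => (Finset.univ.filter fun l => d l = i).card]
  have h0 : (Finset.univ.filter fun k => d k = 0).card = 0 :=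
    Finset.card_eq_zero.2 (Finset.filter_eq_empty_iff.2 fun k _ => by have := hd k; omega)
  have hdiag : ∀ f : ℕ → ℕ, ∑ i ∈ R, f i = ∑ i ∈ R, ∑ j ∈ R, if i = j then f i else 0 :=
    fun f => Finset.sum_congr rfl fun i hi => by rw [Finset.sum_ite_eq, if_pos hi]
  rw [hdiag fun i => (i - 1) * (Finset.univ.filter fun k => d k = i).card ^ 2,
    hdiag fun i => (Finset.univ.filter fun k => d k = i).card * (Finset.univ.filter fun k => d k = i).card, two_mul]
  conv_rhs => arg 1; arg 1; arg 2; rw [Finset.sum_comm]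
  rw [← Finset.sum_add_distrib, ← Finset.sum_add_distrib, ← Finset.sum_add_distrib]
  refine Finset.sum_congr rfl fun i _ => ?_
  rw [Finset.mul_sum, ← Finset.sum_add_distrib, ← Finset.sum_add_distrib, ← Finset.sum_add_distrib]
  refine Finset.sum_congr rfl fun j _ => ?_
  rcases lt_trichotomy i j with h | rfl | h
  · rw [min_eq_left h.le, if_pos h, if_neg (by omega : ¬ j < i), if_neg h.ne, if_neg h.ne]; ring
  · rw [min_self, if_neg (lt_irrefl i), if_pos rfl, if_pos rfl]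
    rcases Nat.eq_zero_or_pos i with rfl | hi
    · rw [h0]; simp
    · generalize (Finset.univ.filter fun k => d k = i).card = a
      obtain ⟨m, rfl⟩ : ∃ m, i = m + 1 := ⟨i - 1, by omega⟩
      rw [Nat.add_sub_cancel]
      ring
  · rw [min_eq_right h.le, if_neg (by omega : ¬ i < j), if_pos h, if_neg h.ne', if_neg h.ne']; ring

theorem card_centralizer [Fintype K] {q : ℕ} (hK : Fintype.card K = q ^ 2) (hstar : ∀ a : K, star a = a ^ q)
    (k : K) (hk : star k ≠ k) :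
    Nat.card {x : Matrix D.Idx D.Idx K // D.InR x ∧ xᴴ * x = 1} =
      q ^ (2 * (∑ i ∈ Finset.range (Finset.univ.sup D.d + 1), ∑ j ∈ Finset.range (Finset.univ.sup D.d + 1),
        if i < j then i * (Finset.univ.filter fun k => D.d k = i).card * (Finset.univ.filter fun k => D.d k = j).card else 0) +
      ∑ i ∈ Finset.range (Finset.univ.sup D.d + 1), (i - 1) * (Finset.univ.filter fun k => D.d k = i).card ^ 2) *
      ∏ i ∈ Finset.range (Finset.univ.sup D.d + 1), unitaryOrder q (Finset.univ.filter fun k => D.d k = i).card := by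
  classical
  obtain ⟨γ, hγ⟩ : ∃ γ, γ = 2 * (∑ i ∈ Finset.range (Finset.univ.sup D.d + 1), ∑ j ∈ Finset.range (Finset.univ.sup D.d + 1),
        if i < j then i * (Finset.univ.filter fun k => D.d k = i).card * (Finset.univ.filter fun k => D.d k = j).card else 0) +
      ∑ i ∈ Finset.range (Finset.univ.sup D.d + 1), (i - 1) * (Finset.univ.filter fun k => D.d k = i).card ^ 2 := ⟨_, rfl⟩
  rw [← hγ]
  have hR : Nat.card {x : Matrix D.Idx D.Idx K // D.InR x} =
      Fintype.card K ^ (γ + ∑ k, (Finset.univ.filter fun l => D.d k = D.d l).card) := by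
    rw [D.card_R, hγ, ← sum_min D.pos, ← Finset.prod_pow_eq_pow_sum]
    refine Finset.prod_congr rfl fun k _ => ?_
    rw [← Finset.prod_pow_eq_pow_sum]
    refine Finset.prod_congr rfl fun l _ => ?_
    rw [card_inter (D.pos l), Nat.card_eq_fintype_card, Fintype.card_fun, Fintype.card_fin]
  rw [D.card_R_split, D.card_L, D.card_R0 k hk, pow_add, mul_comm _ (Nat.card D.S0 * Nat.card D.S0)] at hR
  have hpos : 0 < Fintype.card K := Fintype.card_pos
  have h2 := Nat.eq_of_mul_eq_mul_right (Nat.pow_pos hpos) hR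
  have hS : Nat.card D.S0 = q ^ γ := by
    refine Nat.pow_left_injective two_ne_zero ?_
    show Nat.card D.S0 ^ 2 = (q ^ γ) ^ 2
    rw [sq, h2, hK, ← pow_mul, ← pow_mul, mul_comm]
  rw [D.card_UR_split, D.card_UL hK hstar, D.card_U1 k hk, hS, mul_comm]

end Data

end CfsgLib.Classical.GUCentralizer
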