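import Cfsg.Agent.Lib.Classical.GUCentralizer.Count
import Cfsg.Agent.Lib.Classical.RegularProduct

/-!
Centralisers of unipotent elements in the unitary groups.
-/

set_option autoImplicit false
set_option linter.unusedSectionVars false

namespace CfsgLib.Classical.GUCentralizer

open Matrix CfsgLib.Classical

theorem shift_pow_eq_zero {K : Type*} [Field K] [StarRing K] (n : ℕ) : shift n K ^ n = 0 := by
  ext a b
  rw [Data.shift_pow_apply, if_neg (by have := a.2; omega)]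
  rfl

theorem shift_pow_ne {K : Type*} [Field K] [StarRing K] (n : ℕ) :
    shift (n + 1) K ^ n *ᵥ Pi.single 0 1 ≠ 0 := fun h => by
  have := congrFun h (Fin.last n)
  rw [Matrix.mulVec_single_one, Matrix.col_apply, Data.shift_pow_apply] at this
  simp at this

theorem exists_unitary_jordan {K : Type*} [Field K] [Fintype K] [StarRing K] {q : ℕ} (hK : Fintype.card K = q ^ 2)
    (hstar : ∀ a : K, star a = a ^ q) (n : ℕ) :
    ∃ c ci : Matrix (Fin n) (Fin n) K, c * ci = 1 ∧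
      (c * Cfsg.jordanBlock n K * ci)ᴴ * (c * Cfsg.jordanBlock n K * ci) = 1 := by
  cases n with
  | zero => exact ⟨1, 1, Subsingleton.elim _ _, Subsingleton.elim _ _⟩
  | succ n =>
  obtain ⟨N, hN⟩ : ∃ N, N = shift (n + 1) K := ⟨_, rfl⟩
  have hN0 : N ^ (n + 1) = 0 := hN ▸ shift_pow_eq_zero _
  have hNe : N ^ n *ᵥ Pi.single 0 1 ≠ 0 := hN ▸ shift_pow_ne n
  have hu : IsUnit (1 + N) := IsNilpotent.isUnit_one_add ⟨_, hN0⟩
  obtain ⟨A, hA⟩ : ∃ A : GL (Fin (n + 1)) K, (A : Matrix (Fin (n + 1)) (Fin (n + 1)) K) = 1 + N := hu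
  have hq : ∀ M : Matrix (Fin (n + 1)) (Fin (n + 1)) K, GUConj.starQ q M = Mᴴ := fun M => by
    ext a b; simp [GUConj.starQ, hstar]
  obtain ⟨B, hB⟩ : ∃ B : Cfsg.GU (n + 1) K q, IsConj A (B : GL (Fin (n + 1)) K) := by
    rw [GUConj.exists_conj_mem_gu_iff hK, hq]
    obtain ⟨a', ha'⟩ : ∃ a', (A : Matrix (Fin (n + 1)) (Fin (n + 1)) K) * a' = 1 := ⟨_, A.mul_inv⟩
    have ha'' := mul_eq_one_comm.1 ha'
    have hsa : (A : Matrix (Fin (n + 1)) (Fin (n + 1)) K)ᴴ * a'ᴴ = 1 := by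
      rw [← conjTranspose_mul, ha'', conjTranspose_one]
    rw [Matrix.inv_eq_right_inv hsa]
    let Y : GL (Fin (n + 1)) K := ⟨a'ᴴ, (A : Matrix (Fin (n + 1)) (Fin (n + 1)) K)ᴴ, mul_eq_one_comm.1 hsa, hsa⟩
    have hc : Commute a' N := by
      have : Commute a' (A : Matrix (Fin (n + 1)) (Fin (n + 1)) K) := ha''.trans ha'.symm
      rw [hA] at this
      simpa using this.sub_right (Commute.one_right a')
    have e1 : a' - 1 = -(a' * N) := by
      have e : a' * (1 + N) = 1 := hA ▸ ha''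
      rw [mul_add, mul_one] at e
      rw [eq_neg_iff_add_eq_zero, sub_add_eq_add_sub, e, sub_self]
    have hY : ∀ k, ((Y : Matrix (Fin (n + 1)) (Fin (n + 1)) K) - 1) ^ k = ((-1 : Matrix (Fin (n + 1)) (Fin (n + 1)) K) ^ k * (a' ^ k * N ^ k))ᴴ := fun k => by
      rw [← hc.mul_pow, ← neg_pow, ← e1, Matrix.conjTranspose_pow, conjTranspose_sub, conjTranspose_one]
    obtain ⟨e', he'⟩ : ∃ e', ((Y : Matrix (Fin (n + 1)) (Fin (n + 1)) K) - 1) ^ n *ᵥ e' ≠ 0 := by
      by_contra! h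
      have h0 : ((Y : Matrix (Fin (n + 1)) (Fin (n + 1)) K) - 1) ^ n = 0 :=
        Matrix.ext_of_mulVec_single fun i => by rw [h, Matrix.zero_mulVec]
      rw [hY, ← mul_assoc, Matrix.conjTranspose_eq_zero] at h0
      have hua : IsUnit ((-1 : Matrix (Fin (n + 1)) (Fin (n + 1)) K) ^ n * a' ^ n) :=
        (isUnit_one.neg.pow _).mul ((IsUnit.of_mul_eq_one _ ha'').pow _)
      have h1 := hua.mul_left_cancel (h0.trans (mul_zero _).symm)
      exact hNe (by rw [h1, Matrix.zero_mulVec])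
    obtain ⟨P, hP⟩ := RegularProduct.isConj_of_regular (X := Y) (Y := A)
      (by rw [hY, hN0, mul_zero, mul_zero, conjTranspose_zero]) (e := e') (by simpa using he')
      (by rw [hA, add_sub_cancel_left, hN0]) (e' := Pi.single 0 1) (by simpa [hA] using hNe)
    refine ⟨P, ?_⟩
    show (P : Matrix (Fin (n + 1)) (Fin (n + 1)) K) * (A : Matrix (Fin (n + 1)) (Fin (n + 1)) K) = a'ᴴ * P
    exact congrArg Units.val (mul_inv_eq_iff_eq_mul.1 hP)
  obtain ⟨P, hP⟩ := isConj_iff.1 hB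
  refine ⟨P, ((P⁻¹ : GL (Fin (n + 1)) K) : Matrix (Fin (n + 1)) (Fin (n + 1)) K), P.mul_inv, ?_⟩
  have h := (GUConj.mem_gu_iff_starQ hK _).1 B.2
  rw [hq, ← hP, Units.val_mul, Units.val_mul, hA, hN, ← jordanBlock_eq] at h
  exact h

theorem card_centralizer_GU {K : Type*} [Field K] [Fintype K] {q n t : ℕ} (hK : Fintype.card K = q ^ 2)
    (d : Fin t → ℕ) (hd : ∀ k, 1 ≤ d k) (e : ((k : Fin t) × Fin (d k)) ≃ Fin n) (u : ↥(Cfsg.GU n K q))
    (hu : IsConj (Matrix.reindex e e (Cfsg.jordanTypeMatrix d K)) ((u : GL (Fin n) K) : Matrix (Fin n) (Fin n) K)) :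
    Nat.card ↥(Subgroup.centralizer ({u} : Set ↥(Cfsg.GU n K q))) =
      q ^ (2 * (∑ i ∈ Finset.range (Finset.univ.sup d + 1), ∑ j ∈ Finset.range (Finset.univ.sup d + 1),
        if i < j then i * (Finset.univ.filter fun k => d k = i).card * (Finset.univ.filter fun k => d k = j).card else 0) +
      ∑ i ∈ Finset.range (Finset.univ.sup d + 1), (i - 1) * (Finset.univ.filter fun k => d k = i).card ^ 2) *
      ∏ i ∈ Finset.range (Finset.univ.sup d + 1), unitaryOrder q (Finset.univ.filter fun k => d k = i).card := by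
  classical
  obtain ⟨σ, hσ, hσσ, hσne⟩ := exists_qPow hK
  let _inst : StarRing K :=
    { star := σ
      star_involutive := hσσ
      star_mul := fun a b => by show σ (a * b) = σ b * σ a; rw [map_mul, mul_comm]
      star_add := map_add σ }
  have hstar : ∀ a : K, star a = a ^ q := hσ
  obtain ⟨k, hk⟩ := GUConj.exists_pow_ne hK
  choose c ci hc hunit using exists_unitary_jordan hK hstar
  obtain ⟨D, hDd, hDc, hDci⟩ : ∃ D : Data t K, D.d = d ∧ D.c = c ∧ D.ci = ci :=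
    ⟨⟨d, hd, c, ci, hc, hunit⟩, rfl, rfl, rfl⟩
  subst hDd
  have hq : ∀ M : Matrix (Fin n) (Fin n) K, GUConj.starQ q M = Mᴴ := fun M => by
    ext a b; simp [GUConj.starQ, hstar]
  obtain ⟨r, hr⟩ : ∃ r : Matrix D.Idx D.Idx K → Matrix (Fin n) (Fin n) K, r = Matrix.reindex e e := ⟨_, rfl⟩
  have hrm : ∀ x y, r (x * y) = r x * r y := fun x y => by
    rw [hr]; simp [Matrix.reindex_apply, Matrix.submatrix_mul_equiv]
  have hrs : ∀ x, r xᴴ = (r x)ᴴ := fun x => by rw [hr]; simp [Matrix.reindex_apply, Matrix.conjTranspose_submatrix]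
  have hr1 : r 1 = 1 := by rw [hr]; simp
  have hri : Function.Injective r := hr ▸ (Matrix.reindex e e).injective
  let mk : {x : Matrix D.Idx D.Idx K // xᴴ * x = 1} → Cfsg.GU n K q := fun x =>
    ⟨⟨r x.1, r x.1ᴴ, by rw [← hrm, mul_eq_one_comm.1 x.2, hr1], by rw [← hrm, x.2, hr1]⟩, by
      rw [GUConj.mem_gu_iff_starQ hK, hq]
      show (r x.1)ᴴ * r x.1 = 1
      rw [← hrs, ← hrm, x.2, hr1]⟩
  obtain ⟨u0, hu0⟩ : ∃ u0, u0 = mk ⟨D.uu, D.uu_star⟩ := ⟨_, rfl⟩
  have huv : ((u0 : GL (Fin n) K) : Matrix (Fin n) (Fin n) K) = r D.uu := by rw [hu0]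
  have hconj : IsConj u0 u := by
    rw [GUConj.isConj_iff_gl hK]
    obtain ⟨C, hC⟩ : ∃ C : Matrix D.Idx D.Idx K, C = blockDiagonal' fun k => D.c (D.d k) := ⟨_, rfl⟩
    obtain ⟨Ci, hCi⟩ : ∃ Ci : Matrix D.Idx D.Idx K, Ci = blockDiagonal' fun k => D.ci (D.d k) := ⟨_, rfl⟩
    have h1 : C * Ci = 1 := by rw [hC, hCi]; exact D.diag_c_ci
    have huu : D.uu = C * Cfsg.jordanTypeMatrix D.d K * Ci := by
      rw [hC, hCi, Cfsg.jordanTypeMatrix, ← blockDiagonal'_mul, ← blockDiagonal'_mul]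
      rfl
    obtain ⟨P, hP⟩ := hu
    refine isConj_iff.2 ⟨(P : GL (Fin n) K) * ⟨r Ci, r C, by rw [← hrm, mul_eq_one_comm.1 h1, hr1],
      by rw [← hrm, h1, hr1]⟩, ?_⟩
    rw [mul_inv_eq_iff_eq_mul]
    apply Units.ext
    simp only [Units.val_mul, huv]
    show (P : Matrix (Fin n) (Fin n) K) * r Ci * r D.uu = _ * ((P : Matrix (Fin n) (Fin n) K) * r Ci)
    rw [mul_assoc, ← hrm, huu, ← mul_assoc Ci, ← mul_assoc Ci, mul_eq_one_comm.1 h1, one_mul, hrm, ← mul_assoc,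
      show r (Cfsg.jordanTypeMatrix D.d K) = Matrix.reindex e e (Cfsg.jordanTypeMatrix D.d K) by rw [hr],
      show (P : Matrix (Fin n) (Fin n) K) * Matrix.reindex e e (Cfsg.jordanTypeMatrix D.d K) = _ from hP.eq, mul_assoc]
  obtain ⟨g, hg⟩ := isConj_iff.1 hconj
  have hcen : ↥(Subgroup.centralizer ({u0} : Set ↥(Cfsg.GU n K q))) ≃ ↥(Subgroup.centralizer ({u} : Set ↥(Cfsg.GU n K q))) :=
    (MulAut.conj g).toEquiv.subtypeEquiv fun x => by
      rw [Subgroup.mem_centralizer_singleton_iff, Subgroup.mem_centralizer_singleton_iff, ← hg]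
      simp only [MulEquiv.toEquiv_eq_coe, EquivLike.coe_coe, MulAut.conj_apply, mul_assoc, inv_mul_cancel_left, mul_right_inj]
      rw [← mul_assoc u0, ← mul_assoc x, mul_left_inj]
  rw [← Nat.card_congr hcen, ← D.card_centralizer hK hstar k (by rw [hstar]; exact hk)]
  symm
  refine Nat.card_eq_of_bijective (fun x => ⟨mk ⟨x.1, x.2.2⟩, ?_⟩) ⟨?_, ?_⟩
  · rw [Subgroup.mem_centralizer_singleton_iff]
    apply Subtype.ext
    apply Units.ext
    show _ * _ = _ * _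
    rw [huv]
    show r x.1 * r D.uu = r D.uu * r x.1
    rw [← hrm, ← hrm, show x.1 * D.uu = D.uu * x.1 from x.2.1]
  · intro x y h
    exact Subtype.ext (hri (congrArg (fun z => ((z.1 : GL (Fin n) K) : Matrix (Fin n) (Fin n) K)) h))
  · rintro ⟨y, hy⟩
    obtain ⟨x, hx⟩ : ∃ x, r x = ((y : GL (Fin n) K) : Matrix (Fin n) (Fin n) K) :=
      hr ▸ (Matrix.reindex e e).surjective _
    have hy' := (GUConj.mem_gu_iff_starQ hK _).1 y.2
    rw [hq, ← hx, ← hrs, ← hrm, ← hr1] at hy'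
    rw [Subgroup.mem_centralizer_singleton_iff] at hy
    have h' := congrArg (fun z : Cfsg.GU n K q => ((z : GL (Fin n) K) : Matrix (Fin n) (Fin n) K)) hy
    simp only [Subgroup.coe_mul, Units.val_mul, huv, ← hx, ← hrm] at h'
    exact ⟨⟨x, hri h', hri hy'⟩, Subtype.ext (Subtype.ext (Units.ext hx))⟩

end CfsgLib.Classical.GUCentralizer
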