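import Cfsg.Agent.Lib.Classical.GUCentralizer.Toeplitz

/-!
The commutant of a block diagonal unitary unipotent element and its reductive quotient.
-/

set_option autoImplicit false
set_option linter.unusedSectionVars false

namespace CfsgLib.Classical.GUCentralizer

open Matrix

variable {K : Type*} [Field K] [StarRing K] {t : ℕ}

/-- The data of the model: unitary conjugates of Jordan blocks. -/
structure Data (t : ℕ) (K : Type*) [Field K] [StarRing K] where
  d : Fin t → ℕ
  pos : ∀ k, 0 < d k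
  c : (n : ℕ) → Matrix (Fin n) (Fin n) K
  ci : (n : ℕ) → Matrix (Fin n) (Fin n) K
  c_ci : ∀ n, c n * ci n = 1
  unitary : ∀ n, (c n * Cfsg.jordanBlock n K * ci n)ᴴ * (c n * Cfsg.jordanBlock n K * ci n) = 1

namespace Data

variable (D : Data t K)

/-- The index type. -/
abbrev Idx := (k : Fin t) × Fin (D.d k)

theorem ci_c (n : ℕ) : D.ci n * D.c n = 1 := mul_eq_one_comm.1 (D.c_ci n)

/-- The unitary regular unipotent elements. -/
def u (n : ℕ) : Matrix (Fin n) (Fin n) K := D.c n * Cfsg.jordanBlock n K * D.ci n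

theorem u_star (n : ℕ) : (D.u n)ᴴ * D.u n = 1 := D.unitary n

theorem u_star' (n : ℕ) : D.u n * (D.u n)ᴴ = 1 := mul_eq_one_comm.1 (D.u_star n)

/-- A block. -/
def blk (x : Matrix D.Idx D.Idx K) (k l : Fin t) : Matrix (Fin (D.d k)) (Fin (D.d l)) K :=
  Matrix.of fun r s => x ⟨k, r⟩ ⟨l, s⟩

theorem blk_apply (x : Matrix D.Idx D.Idx K) (k l : Fin t) (r s) : D.blk x k l r s = x ⟨k, r⟩ ⟨l, s⟩ := rfl

theorem ext_blk {x y : Matrix D.Idx D.Idx K} (h : ∀ k l, D.blk x k l = D.blk y k l) : x = y :=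
  Matrix.ext fun ⟨k, r⟩ ⟨l, s⟩ => congrFun (congrFun (h k l) r) s

theorem blk_mul (x y : Matrix D.Idx D.Idx K) (k l : Fin t) : D.blk (x * y) k l = ∑ j, D.blk x k j * D.blk y j l := by
  ext r s
  rw [blk_apply, Matrix.mul_apply, Matrix.sum_apply, Fintype.sum_sigma]
  rfl

theorem blk_diag (f : ∀ k, Matrix (Fin (D.d k)) (Fin (D.d k)) K) (k : Fin t) :
    D.blk (blockDiagonal' f) k k = f k := by
  ext r s; exact blockDiagonal'_apply_eq f k r s

theorem blk_diag_ne (f : ∀ k, Matrix (Fin (D.d k)) (Fin (D.d k)) K) {k l : Fin t} (h : k ≠ l) :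
    D.blk (blockDiagonal' f) k l = 0 := by
  ext r s; exact blockDiagonal'_apply_ne f r s h

theorem blk_diag_mul (f : ∀ k, Matrix (Fin (D.d k)) (Fin (D.d k)) K) (x : Matrix D.Idx D.Idx K) (k l : Fin t) :
    D.blk (blockDiagonal' f * x) k l = f k * D.blk x k l := by
  rw [blk_mul, Finset.sum_eq_single k (fun j _ hj => by rw [D.blk_diag_ne f (Ne.symm hj), Matrix.zero_mul])
    (fun h => absurd (Finset.mem_univ k) h), blk_diag]

theorem blk_mul_diag (f : ∀ k, Matrix (Fin (D.d k)) (Fin (D.d k)) K) (x : Matrix D.Idx D.Idx K) (k l : Fin t) :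
    D.blk (x * blockDiagonal' f) k l = D.blk x k l * f l := by
  rw [blk_mul, Finset.sum_eq_single l (fun j _ hj => by rw [D.blk_diag_ne f hj, Matrix.mul_zero])
    (fun h => absurd (Finset.mem_univ l) h), blk_diag]

theorem blk_conjTranspose (x : Matrix D.Idx D.Idx K) (k l : Fin t) : D.blk xᴴ k l = (D.blk x l k)ᴴ := rfl

/-- The block diagonal unitary element. -/
def uu : Matrix D.Idx D.Idx K := blockDiagonal' fun k => D.u (D.d k)

theorem uu_star : D.uuᴴ * D.uu = 1 := by
  rw [uu, blockDiagonal'_conjTranspose, ← blockDiagonal'_mul,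
    show (fun k => (D.u (D.d k))ᴴ * D.u (D.d k)) = fun k : Fin t => (1 : Matrix (Fin (D.d k)) (Fin (D.d k)) K) from
      funext fun k => D.u_star _]
  exact blockDiagonal'_one

/-- The change to Jordan coordinates. -/
def ψ (x : Matrix D.Idx D.Idx K) : Matrix D.Idx D.Idx K :=
  (blockDiagonal' fun k => D.ci (D.d k)) * x * blockDiagonal' fun k => D.c (D.d k)

theorem blk_ψ (x : Matrix D.Idx D.Idx K) (k l : Fin t) :
    D.blk (D.ψ x) k l = D.ci (D.d k) * D.blk x k l * D.c (D.d l) := by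
  rw [ψ, blk_mul_diag, blk_diag_mul]

theorem diag_c_ci : (blockDiagonal' fun k => D.c (D.d k)) * (blockDiagonal' fun k => D.ci (D.d k)) = 1 := by
  rw [← blockDiagonal'_mul,
    show (fun k => D.c (D.d k) * D.ci (D.d k)) = fun k : Fin t => (1 : Matrix (Fin (D.d k)) (Fin (D.d k)) K) from
      funext fun k => D.c_ci _]
  exact blockDiagonal'_one

theorem ψ_mul (x y : Matrix D.Idx D.Idx K) : D.ψ (x * y) = D.ψ x * D.ψ y := by
  simp only [ψ, Matrix.mul_assoc]
  rw [← Matrix.mul_assoc (blockDiagonal' fun k => D.c (D.d k)) (blockDiagonal' fun k => D.ci (D.d k)) _, diag_c_ci,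
    Matrix.one_mul]

theorem ψ_one : D.ψ 1 = 1 := by
  rw [ψ, Matrix.mul_one]
  exact mul_eq_one_comm.1 D.diag_c_ci

/-- The commutant. -/
def InR (x : Matrix D.Idx D.Idx K) : Prop := x * D.uu = D.uu * x

theorem inter_of_comm {i j : ℕ} {X : Matrix (Fin i) (Fin j) K} (h : X * D.u j = D.u i * X) :
    IsInter (D.ci i * X * D.c j) := by
  rw [← isInter_iff_jordanBlock]
  calc D.ci i * X * D.c j * Cfsg.jordanBlock j K
      = D.ci i * (X * (D.c j * Cfsg.jordanBlock j K * D.ci j)) * D.c j := by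
        simp only [Matrix.mul_assoc, D.ci_c, Matrix.mul_one]
    _ = D.ci i * (D.u i * X) * D.c j := by rw [← h]; rfl
    _ = Cfsg.jordanBlock i K * (D.ci i * X * D.c j) := by
        simp only [u, ← Matrix.mul_assoc, D.ci_c, Matrix.one_mul]

theorem comm_of_inter {i j : ℕ} {Y : Matrix (Fin i) (Fin j) K} (h : IsInter Y) :
    D.c i * Y * D.ci j * D.u j = D.u i * (D.c i * Y * D.ci j) := by
  rw [← isInter_iff_jordanBlock] at h
  calc D.c i * Y * D.ci j * D.u j
      = D.c i * (Y * Cfsg.jordanBlock j K) * D.ci j := by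
        simp only [u, Matrix.mul_assoc]
        rw [← Matrix.mul_assoc (D.ci j) (D.c j), D.ci_c, Matrix.one_mul]
    _ = D.c i * (Cfsg.jordanBlock i K * Y) * D.ci j := by rw [h]
    _ = D.u i * (D.c i * Y * D.ci j) := by
        simp only [u, Matrix.mul_assoc]
        rw [← Matrix.mul_assoc (D.ci i) (D.c i), D.ci_c, Matrix.one_mul]

theorem InR.inter {x : Matrix D.Idx D.Idx K} (hx : D.InR x) (k l : Fin t) : IsInter (D.blk (D.ψ x) k l) := by
  rw [blk_ψ]
  refine D.inter_of_comm ?_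
  have h := congrArg (fun y => D.blk y k l) hx
  simp only [uu, blk_mul_diag, blk_diag_mul] at h
  exact h

/-- The corners. -/
def φ (x : Matrix D.Idx D.Idx K) : Matrix (Fin t) (Fin t) K :=
  Matrix.of fun k l => if D.d k = D.d l then D.blk (D.ψ x) k l ⟨0, D.pos k⟩ ⟨0, D.pos l⟩ else 0

theorem φ_apply (x : Matrix D.Idx D.Idx K) (k l : Fin t) :
    D.φ x k l = if D.d k = D.d l then D.blk (D.ψ x) k l ⟨0, D.pos k⟩ ⟨0, D.pos l⟩ else 0 := rfl

theorem φ_add (x y : Matrix D.Idx D.Idx K) : D.φ (x + y) = D.φ x + D.φ y := by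
  ext k l
  simp only [φ_apply, Matrix.add_apply, ψ, Matrix.mul_add, Matrix.add_mul, blk_apply]
  split_ifs <;> simp

theorem φ_sub (x y : Matrix D.Idx D.Idx K) : D.φ (x - y) = D.φ x - D.φ y := by
  rw [eq_sub_iff_add_eq, ← φ_add, sub_add_cancel]

theorem φ_smul (a : K) (x : Matrix D.Idx D.Idx K) : D.φ (a • x) = a • D.φ x := by
  ext k l
  simp only [φ_apply, Matrix.smul_apply, ψ, Matrix.mul_smul, Matrix.smul_mul, blk_apply]
  split_ifs <;> simp

theorem φ_one : D.φ 1 = 1 := by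
  ext k l
  rw [φ_apply, ψ_one, blk_apply, Matrix.one_apply (i := k)]
  by_cases h : k = l
  · subst h; rw [if_pos rfl, if_pos rfl, Matrix.one_apply_eq]
  · rw [if_neg h, Matrix.one_apply_ne (fun e => h (congrArg Sigma.fst e)), ite_self]

theorem φ_mul {x y : Matrix D.Idx D.Idx K} (hx : D.InR x) (hy : D.InR y) : D.φ (x * y) = D.φ x * D.φ y := by
  ext k l
  rw [φ_apply, ψ_mul, Matrix.mul_apply]
  by_cases h : D.d k = D.d l
  · rw [if_pos h, blk_mul, Matrix.sum_apply]
    refine Finset.sum_congr rfl fun j _ => ?_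
    rw [Matrix.mul_apply, Finset.sum_eq_single ⟨0, D.pos j⟩ (fun s _ hs => by
      rw [(hx.inter D k j).row_zero (D.pos k) s (Nat.pos_of_ne_zero fun e => hs (Fin.ext e)), zero_mul])
      (fun h' => absurd (Finset.mem_univ _) h'), φ_apply, φ_apply]
    rcases lt_trichotomy (D.d j) (D.d k) with hj | hj | hj
    · rw [(hx.inter D k j).corner_eq_zero (D.pos j) hj, if_neg hj.ne', zero_mul, zero_mul]
    · rw [if_pos hj.symm, if_pos (hj.trans h)]
    · rw [(hy.inter D j l).corner_eq_zero (D.pos l) (h ▸ hj), mul_zero, if_neg hj.ne, zero_mul]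
  · rw [if_neg h]
    refine (Finset.sum_eq_zero fun j _ => ?_).symm
    rw [φ_apply, φ_apply]
    by_cases hj : D.d k = D.d j
    · rw [if_neg (fun e => h (hj.trans e) : ¬ D.d j = D.d l), mul_zero]
    · rw [if_neg hj, zero_mul]

theorem InR.one : D.InR 1 := by rw [InR, Matrix.one_mul, Matrix.mul_one]

theorem InR.add {x y : Matrix D.Idx D.Idx K} (hx : D.InR x) (hy : D.InR y) : D.InR (x + y) := by
  rw [InR, Matrix.add_mul, Matrix.mul_add, hx, hy]

theorem InR.sub {x y : Matrix D.Idx D.Idx K} (hx : D.InR x) (hy : D.InR y) : D.InR (x - y) := by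
  rw [InR, Matrix.sub_mul, Matrix.mul_sub, hx, hy]

theorem InR.mul {x y : Matrix D.Idx D.Idx K} (hx : D.InR x) (hy : D.InR y) : D.InR (x * y) := by
  rw [InR, Matrix.mul_assoc, hy, ← Matrix.mul_assoc, hx, Matrix.mul_assoc]

theorem InR.smul {x : Matrix D.Idx D.Idx K} (a : K) (hx : D.InR x) : D.InR (a • x) := by
  rw [InR, Matrix.smul_mul, Matrix.mul_smul, hx]

theorem InR.star {x : Matrix D.Idx D.Idx K} (hx : D.InR x) : D.InR xᴴ := by
  have h := congrArg Matrix.conjTranspose hx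
  rw [conjTranspose_mul, conjTranspose_mul] at h
  show xᴴ * D.uu = D.uu * xᴴ
  calc xᴴ * D.uu = D.uu * (D.uuᴴ * xᴴ) * D.uu := by
        rw [← Matrix.mul_assoc D.uu, mul_eq_one_comm.1 D.uu_star, Matrix.one_mul]
    _ = D.uu * (xᴴ * D.uuᴴ) * D.uu := by rw [h]
    _ = D.uu * xᴴ := by rw [Matrix.mul_assoc, Matrix.mul_assoc, D.uu_star, Matrix.mul_one]

theorem corner_star {i j : ℕ} (h : i = j) (hi : 0 < i) (hj : 0 < j) {X : Matrix (Fin i) (Fin j) K}
    (hX : X * D.u j = D.u i * X) :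
    (D.ci j * Xᴴ * D.c i) ⟨0, hj⟩ ⟨0, hi⟩ = star ((D.ci i * X * D.c j) ⟨0, hi⟩ ⟨0, hj⟩) := by
  subst h
  obtain ⟨a, ha⟩ : ∃ a, a = (D.ci i * X * D.c i) ⟨0, hi⟩ ⟨0, hi⟩ := ⟨_, rfl⟩
  rw [← ha]
  obtain ⟨Z, hZ⟩ : ∃ Z, Z = X - a • (1 : Matrix (Fin i) (Fin i) K) := ⟨_, rfl⟩
  have hZu : Z * D.u i = D.u i * Z := by
    rw [hZ, Matrix.sub_mul, Matrix.mul_sub, hX, Matrix.smul_mul, Matrix.mul_smul, Matrix.one_mul, Matrix.mul_one]
  have hZs : Zᴴ * D.u i = D.u i * Zᴴ := by
    have h := congrArg Matrix.conjTranspose hZu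
    rw [conjTranspose_mul, conjTranspose_mul] at h
    calc Zᴴ * D.u i = D.u i * ((D.u i)ᴴ * Zᴴ) * D.u i := by
          rw [← Matrix.mul_assoc (D.u i), D.u_star', Matrix.one_mul]
      _ = D.u i * (Zᴴ * (D.u i)ᴴ) * D.u i := by rw [h]
      _ = D.u i * Zᴴ := by rw [Matrix.mul_assoc, Matrix.mul_assoc, D.u_star, Matrix.mul_one]
  have e : ∀ (W : Matrix (Fin i) (Fin i) K) (b : K),
      D.ci i * (W - b • 1) * D.c i = D.ci i * W * D.c i - b • 1 := fun W b => by
    rw [Matrix.mul_sub, Matrix.sub_mul, Matrix.mul_smul, Matrix.smul_mul, Matrix.mul_one, D.ci_c]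
  have hdet : Z.det = 0 := by
    have h0 := (D.inter_of_comm hZu).det_of_corner hi (by
      rw [hZ, e, Matrix.sub_apply, ← ha, Matrix.smul_apply, Matrix.one_apply_eq, smul_eq_mul, mul_one, sub_self])
    rw [Matrix.det_mul, Matrix.det_mul] at h0
    have h1 : (D.ci i).det * (D.c i).det = 1 := by rw [← Matrix.det_mul, D.ci_c, Matrix.det_one]
    calc Z.det = (D.ci i).det * Z.det * (D.c i).det := by rw [mul_comm ((D.ci i).det), mul_assoc, h1, mul_one]
      _ = 0 := h0
  have h0 := (D.inter_of_comm hZs).corner_of_det hi (by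
    rw [Matrix.det_mul, Matrix.det_mul, Matrix.det_conjTranspose, hdet, star_zero, mul_zero, zero_mul])
  rw [hZ, conjTranspose_sub, conjTranspose_smul, conjTranspose_one, e, Matrix.sub_apply, Matrix.smul_apply,
    Matrix.one_apply_eq, smul_eq_mul, mul_one, sub_eq_zero] at h0
  exact h0

theorem φ_star {x : Matrix D.Idx D.Idx K} (hx : D.InR x) : D.φ xᴴ = (D.φ x)ᴴ := by
  ext k l
  rw [φ_apply, Matrix.conjTranspose_apply, φ_apply]
  by_cases h : D.d k = D.d l
  · rw [if_pos h, if_pos h.symm, blk_ψ, blk_ψ, blk_conjTranspose]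
    refine D.corner_star h.symm (D.pos l) (D.pos k) ?_
    have h' := congrArg (fun y => D.blk y l k) hx
    simp only [uu, blk_mul_diag, blk_diag_mul] at h'
    exact h'
  · rw [if_neg h, if_neg (Ne.symm h), star_zero]

/-- The rectangular identity. -/
def castOne (i j : ℕ) : Matrix (Fin i) (Fin j) K := Matrix.of fun r s => if (r : ℕ) = s then 1 else 0

theorem castOne_self (i : ℕ) : castOne (K := K) i i = (1 : Matrix (Fin i) (Fin i) K) := by
  ext r s; simp [castOne, Matrix.one_apply, Fin.ext_iff]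

theorem mul_castOne {i j : ℕ} (h : i = j) (f : (n : ℕ) → Matrix (Fin n) (Fin n) K) :
    f i * castOne (K := K) i j = castOne (K := K) i j * f j := by
  subst h; rw [castOne_self]; exact (Matrix.mul_one _).trans (Matrix.one_mul _).symm

theorem castOne_mul_castOne {i j l : ℕ} (h : i = j) (h' : j = l) :
    castOne (K := K) i j * castOne (K := K) j l = castOne (K := K) i l := by
  subst h; subst h'; rw [castOne_self]; exact Matrix.one_mul _

/-- The scalar block matrices. -/
def T (M : Matrix (Fin t) (Fin t) K) : Matrix D.Idx D.Idx K :=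
  Matrix.of fun a b => if D.d a.1 = D.d b.1 ∧ (a.2 : ℕ) = b.2 then M a.1 b.1 else 0

theorem blk_T (M : Matrix (Fin t) (Fin t) K) (k l : Fin t) :
    D.blk (D.T M) k l = if D.d k = D.d l then M k l • castOne (D.d k) (D.d l) else 0 := by
  ext r s
  rw [blk_apply]
  by_cases h : D.d k = D.d l
  · simp [T, h, castOne]
  · simp [T, h]

theorem inR_T (M : Matrix (Fin t) (Fin t) K) : D.InR (D.T M) := by
  refine D.ext_blk fun k l => ?_
  simp only [uu, blk_mul_diag, blk_diag_mul, blk_T]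
  split_ifs with h
  · rw [Matrix.smul_mul, Matrix.mul_smul, mul_castOne h]
  · rw [Matrix.zero_mul, Matrix.mul_zero]

theorem T_star (M : Matrix (Fin t) (Fin t) K) : (D.T M)ᴴ = D.T Mᴴ := by
  ext a b
  simp only [conjTranspose_apply, T, Matrix.of_apply]
  by_cases h : D.d a.1 = D.d b.1 ∧ (a.2 : ℕ) = b.2
  · rw [if_pos h, if_pos ⟨h.1.symm, h.2.symm⟩]
  · rw [if_neg h, if_neg (fun e => h ⟨e.1.symm, e.2.symm⟩), star_zero]

/-- Block diagonal with respect to the sizes. -/
def InL (M : Matrix (Fin t) (Fin t) K) : Prop := ∀ k l, D.d k ≠ D.d l → M k l = 0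

theorem inL_φ (x : Matrix D.Idx D.Idx K) : D.InL (D.φ x) := fun k l h => by rw [φ_apply, if_neg h]

theorem φ_T {M : Matrix (Fin t) (Fin t) K} (hM : D.InL M) : D.φ (D.T M) = M := by
  ext k l
  rw [φ_apply]
  by_cases h : D.d k = D.d l
  · rw [if_pos h, blk_ψ, blk_T, if_pos h, Matrix.mul_smul, Matrix.smul_mul, Matrix.mul_assoc,
      ← mul_castOne h (f := D.c), ← Matrix.mul_assoc, D.ci_c, Matrix.one_mul]
    simp [castOne]
  · rw [if_neg h, hM k l h]

theorem T_mul {M N : Matrix (Fin t) (Fin t) K} (hM : D.InL M) (_hN : D.InL N) : D.T M * D.T N = D.T (M * N) := by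
  refine D.ext_blk fun k l => ?_
  rw [blk_mul, blk_T]
  by_cases h : D.d k = D.d l
  · rw [if_pos h, Matrix.mul_apply, Finset.sum_smul]
    refine Finset.sum_congr rfl fun j _ => ?_
    rw [blk_T, blk_T]
    by_cases hj : D.d k = D.d j
    · rw [if_pos hj, if_pos (hj.symm.trans h), Matrix.smul_mul, Matrix.mul_smul, smul_smul,
        castOne_mul_castOne hj (hj.symm.trans h)]
    · rw [if_neg hj, Matrix.zero_mul, hM k j hj, zero_mul, zero_smul]
  · rw [if_neg h]
    refine Finset.sum_eq_zero fun j _ => ?_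
    rw [blk_T, blk_T]
    by_cases hj : D.d k = D.d j
    · rw [if_neg (fun e => h (hj.trans e) : ¬ D.d j = D.d l), Matrix.mul_zero]
    · rw [if_neg hj, Matrix.zero_mul]

theorem T_one : D.T 1 = 1 := by
  refine D.ext_blk fun k l => ?_
  rw [blk_T]
  by_cases hkl : k = l
  · subst hkl
    rw [if_pos rfl, Matrix.one_apply_eq, one_smul, castOne_self]
    ext r s
    simp [blk_apply, Matrix.one_apply]
  · rw [Matrix.one_apply_ne hkl, zero_smul, ite_self]
    ext r s
    rw [blk_apply, Matrix.zero_apply, Matrix.one_apply_ne (fun e => hkl (congrArg Sigma.fst e))]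

theorem shift_pow_apply (n : ℕ) : ∀ (m : ℕ) (a b : Fin n), (shift n K ^ m) a b = if (a : ℕ) = b + m then 1 else 0
  | 0, a, b => by simp [Matrix.one_apply, Fin.ext_iff]
  | m + 1, a, b => by
    rw [pow_succ, mul_shift_apply]
    split_ifs with h1 h2 h2 <;> first | omega | rw [shift_pow_apply n m] | rfl
    · rw [if_pos (show (a : ℕ) = (b : ℕ) + 1 + m by omega)]
    · rw [if_neg (show ¬ (a : ℕ) = (b : ℕ) + 1 + m by omega)]

/-- An element of the commutant with trivial corners is invertible. -/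
theorem isUnit_of_φ_eq_one {x : Matrix D.Idx D.Idx K} (hx : D.InR x) (h1 : D.φ x = 1) : IsUnit x := by
  classical
  obtain ⟨y, hy⟩ : ∃ y, y = D.ψ x := ⟨_, rfl⟩
  obtain ⟨S, hS⟩ : ∃ S : Matrix D.Idx D.Idx K, S = blockDiagonal' fun k => shift (D.d k) K := ⟨_, rfl⟩
  have hint : ∀ k l, IsInter (D.blk y k l) := fun k l => hy ▸ hx.inter D k l
  have hyS : y * S = S * y := by
    refine D.ext_blk fun k l => ?_
    rw [hS, blk_mul_diag, blk_diag_mul]
    exact hint k l
  suffices hinj : ∀ v, y *ᵥ v = 0 → v = 0 by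
    have hu : IsUnit y := by
      rw [← Matrix.mulVec_injective_iff_isUnit]
      intro v w hvw
      exact sub_eq_zero.1 (hinj _ (by rw [Matrix.mulVec_sub, hvw, sub_self]))
    have hC : IsUnit (blockDiagonal' fun k => D.c (D.d k) : Matrix D.Idx D.Idx K) :=
      IsUnit.of_mul_eq_one _ D.diag_c_ci
    have hCi : IsUnit (blockDiagonal' fun k => D.ci (D.d k) : Matrix D.Idx D.Idx K) :=
      IsUnit.of_mul_eq_one _ (mul_eq_one_comm.1 D.diag_c_ci)
    rw [hy] at hu
    exact (hC.mul hu).mul hCi |> fun h => by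
      rw [ψ, ← Matrix.mul_assoc, ← Matrix.mul_assoc, D.diag_c_ci, Matrix.one_mul, Matrix.mul_assoc, D.diag_c_ci,
        Matrix.mul_one] at h
      exact h
  intro v hv
  by_contra hv0
  have hker : ∀ m, y *ᵥ ((S ^ m) *ᵥ v) = 0 := fun m => by
    rw [Matrix.mulVec_mulVec, (Commute.pow_right hyS m).eq, ← Matrix.mulVec_mulVec, hv, Matrix.mulVec_zero]
  have hnil : ∃ m, (S ^ m) *ᵥ v = 0 := by
    refine ⟨∑ k, D.d k, ?_⟩
    have : S ^ (∑ k, D.d k) = 0 := by
      rw [hS, ← blockDiagonal'_pow,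
        show (fun k => shift (D.d k) K) ^ (∑ k, D.d k) = 0 from funext fun k => Matrix.ext fun a b => by
          rw [Pi.pow_apply, shift_pow_apply, if_neg]
          · rfl
          · have := Finset.single_le_sum (f := D.d) (fun _ _ => Nat.zero_le _) (Finset.mem_univ k)
            have := a.2
            omega]
      exact blockDiagonal'_zero
    rw [this, Matrix.zero_mulVec]
  obtain ⟨m, hm⟩ : ∃ m, Nat.find hnil = m + 1 := Nat.exists_eq_succ_of_ne_zero fun h => hv0 (by
    have := Nat.find_spec hnil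
    rwa [h, pow_zero, Matrix.one_mulVec] at this)
  obtain ⟨w, hw⟩ : ∃ w, w = (S ^ m) *ᵥ v := ⟨_, rfl⟩
  have hw0 : w ≠ 0 := fun h => Nat.find_min hnil (show m < Nat.find hnil by omega) (hw ▸ h)
  have hSw : S *ᵥ w = 0 := by
    rw [hw, Matrix.mulVec_mulVec, ← pow_succ', ← hm]
    exact Nat.find_spec hnil
  have hsupp : ∀ k (r : Fin (D.d k)), (r : ℕ) + 1 < D.d k → w ⟨k, r⟩ = 0 := by
    intro k r hr
    have h := congrFun hSw ⟨k, ⟨(r : ℕ) + 1, hr⟩⟩
    rw [hS, Matrix.mulVec, dotProduct, Fintype.sum_sigma, Finset.sum_eq_single k, Finset.sum_eq_single r] at h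
    · simpa [blockDiagonal'_apply_eq, shift] using h
    · intro s _ hs
      have : (s : ℕ) ≠ r := fun e => hs (Fin.ext e)
      simp [blockDiagonal'_apply_eq, shift, Ne.symm this]
    · simp
    · intro l _ hl
      exact Finset.sum_eq_zero fun s _ => by rw [blockDiagonal'_apply_ne _ _ _ (Ne.symm hl), zero_mul]
    · simp
  obtain ⟨k₀, hk₀⟩ : ∃ k, w ⟨k, ⟨D.d k - 1, by have := D.pos k; omega⟩⟩ ≠ 0 := by
    by_contra! hall
    refine hw0 (funext fun a => ?_)
    obtain ⟨k, r⟩ := a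
    by_cases hr : (r : ℕ) + 1 < D.d k
    · exact hsupp k r hr
    · rw [show r = ⟨D.d k - 1, by have := D.pos k; omega⟩ from Fin.ext (show (r : ℕ) = D.d k - 1 by omega)]
      exact hall k
  obtain ⟨k, hk, hmin⟩ := Finset.exists_min_image
    (Finset.univ.filter fun k => w ⟨k, ⟨D.d k - 1, by have := D.pos k; omega⟩⟩ ≠ 0) D.d ⟨k₀, by simpa using hk₀⟩
  have hk' := (Finset.mem_filter.1 hk).2
  have h := congrFun (hker m) ⟨k, ⟨D.d k - 1, by have := D.pos k; omega⟩⟩
  rw [← hw, Matrix.mulVec, dotProduct, Fintype.sum_sigma, Pi.zero_apply] at h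
  refine hk' (Eq.trans ?_ h)
  symm
  rw [Finset.sum_eq_single k]
  · rw [Finset.sum_eq_single ⟨D.d k - 1, by have := D.pos k; omega⟩]
    · have he : y ⟨k, ⟨D.d k - 1, by have := D.pos k; omega⟩⟩ ⟨k, ⟨D.d k - 1, by have := D.pos k; omega⟩⟩ = 1 := by
        rw [← D.blk_apply y k k, (hint k k).last (D.pos k) (D.pos k), if_pos le_rfl]
        have h2 := congrFun (congrFun h1 k) k
        rw [φ_apply, if_pos rfl, ← hy, Matrix.one_apply_eq] at h2
        refine Eq.trans ?_ h2
        congr 1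
        exact Fin.ext (Nat.sub_self _)
      rw [he, one_mul]
    · intro s _ hs
      rw [hsupp k s (by
        by_contra hc
        exact hs (Fin.ext (show (s : ℕ) = D.d k - 1 by omega))), mul_zero]
    · simp
  · intro l _ hlk
    refine Finset.sum_eq_zero fun s _ => ?_
    by_cases hs : (s : ℕ) + 1 < D.d l
    · rw [hsupp l s hs, mul_zero]
    · have hs' : s = ⟨D.d l - 1, by have := D.pos l; omega⟩ := Fin.ext (show (s : ℕ) = D.d l - 1 by omega)
      rw [hs']
      by_cases hwl : w ⟨l, ⟨D.d l - 1, by have := D.pos l; omega⟩⟩ = 0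
      · rw [hwl, mul_zero]
      · have hle := hmin l (Finset.mem_filter.2 ⟨Finset.mem_univ l, hwl⟩)
        rw [← D.blk_apply y k l, (hint k l).last (D.pos k) (D.pos l)]
        split_ifs with hlk'
        · have hd : D.d k = D.d l := le_antisymm hle hlk'
          have h2 := congrFun (congrFun h1 k) l
          rw [φ_apply, if_pos hd, ← hy, Matrix.one_apply_ne (Ne.symm hlk)] at h2
          rw [show (⟨D.d k - D.d l, by have := D.pos k; have := D.pos l; omega⟩ : Fin (D.d k)) = ⟨0, D.pos k⟩ from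
            Fin.ext (by show D.d k - D.d l = 0; omega), h2, zero_mul]
        · rw [zero_mul]
  · simp

end Data

end CfsgLib.Classical.GUCentralizer
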