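import Mathlib
import Cfsg.Prelude.Def_JordanBlocks

/-!
Intertwiners of nilpotent Jordan blocks.
-/

set_option autoImplicit false

namespace CfsgLib.Classical.GUCentralizer

open Matrix

variable {K : Type*} [Field K] {i j : ℕ}

/-- The nilpotent shift. -/
def shift (n : ℕ) (K : Type*) [Field K] : Matrix (Fin n) (Fin n) K :=
  Matrix.of fun a b => if (a : ℕ) = b + 1 then 1 else 0

theorem jordanBlock_eq (n : ℕ) : Cfsg.jordanBlock n K = 1 + shift n K := by
  ext a b
  simp only [Cfsg.jordanBlock, shift, Matrix.of_apply, Matrix.add_apply, Matrix.one_apply, Fin.ext_iff]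
  split_ifs <;> first | omega | simp

/-- Intertwiner of two shifts. -/
def IsInter (B : Matrix (Fin i) (Fin j) K) : Prop := B * shift j K = shift i K * B

theorem mul_shift_apply (B : Matrix (Fin i) (Fin j) K) (r : Fin i) (c : Fin j) :
    (B * shift j K) r c = if h : (c : ℕ) + 1 < j then B r ⟨(c : ℕ) + 1, h⟩ else 0 := by
  rw [Matrix.mul_apply]
  split_ifs with h
  · rw [Finset.sum_eq_single ⟨(c : ℕ) + 1, h⟩]
    · simp [shift]
    · intro b _ hb
      have : (b : ℕ) ≠ c + 1 := fun e => hb (Fin.ext e)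
      simp [shift, this]
    · simp
  · refine Finset.sum_eq_zero fun b _ => ?_
    have : (b : ℕ) ≠ c + 1 := fun e => h (e ▸ b.2)
    simp [shift, this]

theorem shift_mul_apply (B : Matrix (Fin i) (Fin j) K) (r : Fin i) (c : Fin j) :
    (shift i K * B) r c = if 0 < (r : ℕ) then B ⟨(r : ℕ) - 1, lt_of_le_of_lt (Nat.sub_le _ _) r.2⟩ c else 0 := by
  rw [Matrix.mul_apply]
  split_ifs with h
  · rw [Finset.sum_eq_single ⟨(r : ℕ) - 1, lt_of_le_of_lt (Nat.sub_le _ _) r.2⟩]
    · simp [shift, Nat.sub_add_cancel h]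
    · intro b _ hb
      have : (r : ℕ) ≠ b + 1 := fun e => hb (Fin.ext (show (b : ℕ) = r - 1 by omega))
      simp [shift, this]
    · simp
  · refine Finset.sum_eq_zero fun b _ => ?_
    have : (r : ℕ) ≠ b + 1 := by omega
    simp [shift, this]

theorem isInter_iff_jordanBlock (B : Matrix (Fin i) (Fin j) K) :
    B * Cfsg.jordanBlock j K = Cfsg.jordanBlock i K * B ↔ IsInter B := by
  rw [jordanBlock_eq, jordanBlock_eq, Matrix.mul_add, Matrix.add_mul, Matrix.mul_one, Matrix.one_mul]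
  exact ⟨add_left_cancel, fun h => congrArg _ h⟩

/-- An intertwiner is a Toeplitz matrix. -/
theorem IsInter.apply_eq {B : Matrix (Fin i) (Fin j) K} (hB : IsInter B) :
    ∀ (c : ℕ) (hc : c < j) (r : Fin i),
      B r ⟨c, hc⟩ = if c ≤ (r : ℕ) then B ⟨(r : ℕ) - c, lt_of_le_of_lt (Nat.sub_le _ _) r.2⟩ ⟨0, by omega⟩ else 0 := by
  intro c
  induction c with
  | zero => intro hc r; simp
  | succ c ih =>
    intro hc r
    have h := congrFun (congrFun hB r) ⟨c, by omega⟩
    rw [mul_shift_apply, dif_pos (show c + 1 < j from hc), shift_mul_apply] at h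
    rw [show B r ⟨c + 1, hc⟩ = _ from h]
    by_cases hr : 0 < (r : ℕ)
    · rw [if_pos hr, ih]
      by_cases h2 : c + 1 ≤ (r : ℕ)
      · rw [if_pos (show c ≤ (r : ℕ) - 1 by omega), if_pos h2]
        congr 1
        exact Fin.ext (show (r : ℕ) - 1 - c = (r : ℕ) - (c + 1) by omega)
      · rw [if_neg (show ¬ c ≤ (r : ℕ) - 1 by omega), if_neg h2]
    · rw [if_neg hr, if_neg (show ¬ c + 1 ≤ (r : ℕ) by omega)]

theorem IsInter.col_zero {B : Matrix (Fin i) (Fin j) K} (hB : IsInter B) (hj : 0 < j) (m : Fin i) (h : (m : ℕ) + j < i) :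
    B m ⟨0, hj⟩ = 0 := by
  have h1 := congrFun (congrFun hB ⟨(m : ℕ) + j, h⟩) ⟨j - 1, by omega⟩
  rw [mul_shift_apply, dif_neg (show ¬ j - 1 + 1 < j by omega), shift_mul_apply,
    if_pos (show 0 < (m : ℕ) + j by omega), hB.apply_eq, if_pos (show j - 1 ≤ (m : ℕ) + j - 1 by omega)] at h1
  refine Eq.trans ?_ h1.symm
  congr 1
  exact Fin.ext (show (m : ℕ) = (m : ℕ) + j - 1 - (j - 1) by omega)

theorem IsInter.corner_eq_zero {B : Matrix (Fin i) (Fin j) K} (hB : IsInter B) (hj : 0 < j) (h : j < i) :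
    B ⟨0, hj.trans h⟩ ⟨0, hj⟩ = 0 :=
  hB.col_zero hj _ (by simpa using h)

theorem IsInter.row_zero {B : Matrix (Fin i) (Fin j) K} (hB : IsInter B) (hi : 0 < i) (c : Fin j) (hc : 0 < (c : ℕ)) :
    B ⟨0, hi⟩ c = 0 := by
  obtain ⟨c, hc'⟩ := c
  rw [hB.apply_eq, if_neg (Nat.not_le.2 hc)]

/-- The last column, at the last row. -/
theorem IsInter.last {B : Matrix (Fin i) (Fin j) K} (hB : IsInter B) (hi : 0 < i) (hj : 0 < j) :
    B ⟨i - 1, by omega⟩ ⟨j - 1, by omega⟩ = if j ≤ i then B ⟨i - j, by omega⟩ ⟨0, hj⟩ else 0 := by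
  rw [hB.apply_eq]
  by_cases h : j ≤ i
  · rw [if_pos (show j - 1 ≤ i - 1 by omega), if_pos h]
    congr 1
    exact Fin.ext (show i - 1 - (j - 1) = i - j by omega)
  · rw [if_neg (show ¬ j - 1 ≤ i - 1 by omega), if_neg h]

theorem IsInter.mul {l : ℕ} {B : Matrix (Fin i) (Fin j) K} {C : Matrix (Fin j) (Fin l) K} (hB : IsInter B)
    (hC : IsInter C) : IsInter (B * C) := by
  show B * C * shift l K = shift i K * (B * C)
  rw [Matrix.mul_assoc, hC, ← Matrix.mul_assoc, hB, Matrix.mul_assoc]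

/-- Intertwiners form a space of dimension `min i j`. -/
theorem card_inter (hj : 0 < j) :
    Nat.card {B : Matrix (Fin i) (Fin j) K // IsInter B} = Nat.card (Fin (min i j) → K) := by
  refine Nat.card_congr
    { toFun := fun B m => B.1 ⟨i - min i j + m, by omega⟩ ⟨0, hj⟩
      invFun := fun f => ⟨Matrix.of fun r c =>
        if h : (c : ℕ) ≤ r ∧ i - min i j ≤ (r : ℕ) - c then f ⟨(r : ℕ) - c - (i - min i j), by omega⟩ else 0, ?_⟩
      left_inv := ?_
      right_inv := ?_ }
  · show _ * _ = _ * _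
    ext r c
    rw [mul_shift_apply, shift_mul_apply]
    simp only [Matrix.of_apply]
    by_cases h1 : (c : ℕ) + 1 < j
    · rw [dif_pos h1]
      by_cases h2 : 0 < (r : ℕ)
      · rw [if_pos h2]
        by_cases h3 : (c : ℕ) + 1 ≤ r ∧ i - min i j ≤ (r : ℕ) - (c + 1)
        · rw [dif_pos h3, dif_pos ⟨by omega, by omega⟩]
          congr 1
          exact Fin.ext (show (r : ℕ) - (c + 1) - (i - min i j) = (r : ℕ) - 1 - c - (i - min i j) by omega)
        · rw [dif_neg h3, dif_neg (fun h => h3 ⟨by omega, by omega⟩)]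
      · rw [if_neg h2, dif_neg (fun h => by omega)]
    · rw [dif_neg h1]
      by_cases h2 : 0 < (r : ℕ)
      · rw [if_pos h2, dif_neg (fun h => by have := r.2; omega)]
      · rw [if_neg h2]
  · rintro ⟨B, hB⟩
    refine Subtype.ext (Matrix.ext fun r c => ?_)
    simp only [Matrix.of_apply]
    obtain ⟨c, hc⟩ := c
    rw [hB.apply_eq c hc r]
    by_cases h : c ≤ (r : ℕ)
    · rw [if_pos h]
      by_cases h' : i - min i j ≤ (r : ℕ) - c
      · rw [dif_pos ⟨h, h'⟩]
        congr 1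
        exact Fin.ext (show i - min i j + ((r : ℕ) - c - (i - min i j)) = (r : ℕ) - c by omega)
      · rw [dif_neg (fun e => h' e.2), hB.col_zero hj _ (show (r : ℕ) - c + j < i by omega)]
    · rw [if_neg h, dif_neg (fun e => h e.1)]
  · intro f
    funext m
    simp only [Matrix.of_apply]
    rw [dif_pos ⟨Nat.zero_le _, by omega⟩]
    congr 1
    exact Fin.ext (show i - min i j + (m : ℕ) - 0 - (i - min i j) = m by omega)

/-- A singular square intertwiner has zero corner. -/
theorem IsInter.corner_of_det {B : Matrix (Fin i) (Fin i) K} (hB : IsInter B) (hi : 0 < i) (hdet : B.det = 0) :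
    B ⟨0, hi⟩ ⟨0, hi⟩ = 0 := by
  have hlow : B.BlockTriangular OrderDual.toDual := by
    intro a b hab
    obtain ⟨b, hb⟩ := b
    rw [hB.apply_eq, if_neg]
    exact not_le.2 (show (a : ℕ) < b from hab)
  rw [Matrix.det_of_lowerTriangular _ hlow] at hdet
  have hd : ∀ a, B a a = B ⟨0, hi⟩ ⟨0, hi⟩ := by
    rintro ⟨a, ha⟩
    rw [hB.apply_eq, if_pos le_rfl]
    congr 1
    exact Fin.ext (Nat.sub_self a)
  rw [Finset.prod_congr rfl (fun a _ => hd a), Finset.prod_const] at hdet
  exact pow_eq_zero_iff (by simp; omega) |>.1 hdet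

/-- Conversely a square intertwiner with zero corner is singular. -/
theorem IsInter.det_of_corner {B : Matrix (Fin i) (Fin i) K} (hB : IsInter B) (hi : 0 < i)
    (h : B ⟨0, hi⟩ ⟨0, hi⟩ = 0) : B.det = 0 := by
  refine Matrix.det_eq_zero_of_row_eq_zero ⟨0, hi⟩ fun c => ?_
  rcases Nat.eq_zero_or_pos (c : ℕ) with hc | hc
  · rw [show c = ⟨0, hi⟩ from Fin.ext hc, h]
  · exact hB.row_zero hi c hc

end CfsgLib.Classical.GUCentralizer
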